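import Groth.Agent.BddFib.K391.Fibre
import Groth.Agent.CycB.FiniteFlat
import Groth.Prelude.Def_Mor2

/-!
Number of points and residue degrees of schemes finite over a field.
-/

set_option autoImplicit false
universe u
open CategoryTheory AlgebraicGeometry Limits

namespace K391.BddPoints

open K391.BddBasic K391.BddFibre Groth.Agent.CycB.FiniteFlat

theorem isArtinianRing_stalk {F : Scheme.{u}} [IsLocallyArtinian F] (z : F) :
    IsArtinianRing (F.presheaf.stalk z) := by
  obtain ⟨U, hU, hz, -⟩ := exists_isAffineOpen_mem_and_subset (TopologicalSpace.Opens.mem_top z)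
  have h1 : IsArtinianRing Γ(F, U) := IsLocallyArtinian.isArtinianRing_presheaf_obj ⟨U, hU⟩
  let := (F.presheaf.germ U z hz).hom.toAlgebra
  have h2 : IsLocalization.AtPrime (F.presheaf.stalk z) (hU.primeIdealOf ⟨z, hz⟩).asIdeal :=
    hU.isLocalization_stalk ⟨z, hz⟩
  exact IsArtinianRing.localization_artinian
    (hU.primeIdealOf ⟨z, hz⟩).asIdeal.primeCompl (F.presheaf.stalk z)

theorem finite_of_isFinite {k : Type u} [Field k] {F : Scheme.{u}}
    (g : F ⟶ Spec (CommRingCat.of k)) [IsFinite g] : IsLocallyArtinian F ∧ Finite F := by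
  have h7 : IsLocallyArtinian F := IsLocallyArtinian.of_locallyQuasiFinite g
  have h8 : CompactSpace F := QuasiCompact.compactSpace_of_compactSpace g
  exact ⟨h7, finite_of_compact_of_discrete⟩

theorem residueDegree_le {k : Type u} [Field k] {F : Scheme.{u}}
    (g : F ⟶ Spec (CommRingCat.of k)) [IsFinite g] (z : F) :
    1 ≤ g.residueDegree z ∧ g.residueDegree z ≤ (rlen (g.stalkMap z).hom).toNat := by
  have h7 := (finite_of_isFinite g).1
  have h8 := isArtinianRing_stalk z
  constructor
  · have h1 := residueFieldMap_finite g z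
    let i : Algebra ((Spec (CommRingCat.of k)).residueField (g z)) (F.residueField z) :=
      (g.residueFieldMap z).hom.toAlgebra
    have : Module.Finite ((Spec (CommRingCat.of k)).residueField (g z)) (F.residueField z) := h1
    exact Module.finrank_pos (R := (Spec (CommRingCat.of k)).residueField (g z))
      (M := F.residueField z)
  · rw [toNat_rlen_stalkMap]
    refine Nat.le_mul_of_pos_left _ ?_
    have h1 : Module.length (F.presheaf.stalk z) (F.presheaf.stalk z) ≠ ⊤ := Module.length_ne_top
    have h2 : Module.length (F.presheaf.stalk z) (F.presheaf.stalk z) ≠ 0 :=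
      Module.length_pos.ne'
    rw [Nat.pos_iff_ne_zero, Ne, ENat.toNat_eq_zero]
    tauto

theorem finsum_residueDegree_le {k : Type u} [Field k] {F : Scheme.{u}}
    (g : F ⟶ Spec (CommRingCat.of k)) {n : ℕ}
    (h : BddFib.FiniteOfDegLE (CommRingCat.of k) g n) :
    Finite F ∧ ∑ᶠ z : F, g.residueDegree z ≤ n ∧ Nat.card F ≤ n := by
  rw [finiteOfDegLE_iff (Field.toIsField k)] at h
  obtain ⟨h1, h2⟩ := h
  have h3 := (finite_of_isFinite g).2
  have h4 : ∑ᶠ z : F, g.residueDegree z ≤ n := by
    let pt : Spec (CommRingCat.of k) := IsLocalRing.closedPoint k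
    refine le_trans ?_ (h2 pt)
    rw [← sum_rlen_field k F g pt]
    have := Fintype.ofFinite F
    rw [finsum_eq_sum_of_fintype, finsum_eq_sum_of_fintype]
    exact Finset.sum_le_sum fun z _ => (residueDegree_le g z).2
  refine ⟨h3, h4, le_trans ?_ h4⟩
  have := Fintype.ofFinite F
  rw [finsum_eq_sum_of_fintype, Nat.card_eq_fintype_card, Fintype.card_eq_sum_ones]
  exact Finset.sum_le_sum fun z _ => (residueDegree_le g z).1

theorem fibreDegLE_of_isFinLocFreeOfDeg {X Y : Scheme.{u}} {f : X ⟶ Y} {d : ℕ}
    (hf : Mor2.IsFinLocFreeOfDeg d f) : BddFib.FibreDegLE f d := by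
  intro y
  rw [finiteOfDegLE_iff (isField_residueField Y y)]
  obtain ⟨⟨h1, h2, h3⟩, h4⟩ := hf
  refine ⟨MorphismProperty.of_isPullback (IsPullback.of_hasPullback f _) h1, fun z => ?_⟩
  have h5 := Scheme.Hom.finrank_pullback_snd f (Y.fromSpecResidueField y) z
  rw [h4] at h5
  exact h5.le

end K391.BddPoints
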