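import Groth.Agent.BddFib.K391.Comp
import Groth.Agent.FlatA.ZMTFactor

/-!
Locally quasi-finite morphisms from quasi-compact schemes have universally bounded fibres.
-/

set_option autoImplicit false
universe u
open CategoryTheory AlgebraicGeometry Limits
open scoped TensorProduct

namespace K391.BddCover

open K391.BddBasic K391.BddFibre K391.BddPoints K391.BddComp

set_option backward.isDefEq.respectTransparency.types false in
theorem of_iSup_field {k : CommRingCat.{u}} (hk : IsField k) {T : Scheme.{u}}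
    (p : T ⟶ Spec k) {ι : Type u} [Fintype ι] (W : ι → T.Opens) (hW : iSup W = ⊤) (n : ι → ℕ)
    (h : ∀ i, BddFib.FiniteOfDegLE k ((W i).ι ≫ p) (n i)) :
    BddFib.FiniteOfDegLE k p (∑ i, n i) := by
  let := hk.toField
  have hfin : ∀ i, IsFinite ((W i).ι ≫ p) := fun i => ((finiteOfDegLE_iff hk _ _).mp (h i)).1
  have hT1 : Finite T := by
    have h1 : ∀ i, Finite (W i).toScheme := fun i =>
      (finite_of_isFinite (k := k) ((W i).ι ≫ p)).2
    have h2 : (Set.univ : Set T) = ⋃ i, (W i : Set T) := by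
      rw [← TopologicalSpace.Opens.coe_iSup, hW]; rfl
    rw [← Set.finite_univ_iff, h2]
    exact Set.finite_iUnion fun i => @Set.toFinite _ (W i : Set T) (h1 i)
  have hlqf : LocallyQuasiFinite p := by
    rw [IsZariskiLocalAtSource.iff_of_iSup_eq_top (P := @LocallyQuasiFinite) W hW]
    intro i
    infer_instance
  have h3 : IsArtinianRing k := inferInstance
  have h4 : IsArtinianScheme (Spec k) := inferInstance
  have h5 : CompactSpace T := inferInstance
  have h6 : IsFinite p := IsFinite.of_locallyQuasiFinite _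
  have h7 : IsAffine T := isAffine_of_isAffineHom p
  let alg : Algebra k Γ(T, ⊤) := BddFib.secAlgebra k p
  let algi : ∀ i, Algebra k Γ((W i).toScheme, ⊤) := fun i => BddFib.secAlgebra k ((W i).ι ≫ p)
  let φ : ∀ i, Γ(T, ⊤) →ₐ[k] Γ((W i).toScheme, ⊤) := fun i =>
    { (W i).ι.appTop.hom with
      commutes' := by
        intro r
        change (((Scheme.ΓSpecIso k).inv ≫ p.appTop) ≫ (W i).ι.appTop).hom r =
          ((Scheme.ΓSpecIso k).inv ≫ ((W i).ι ≫ p).appTop).hom r
        rw [Scheme.Hom.comp_appTop, Category.assoc] }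
  let Φ : Γ(T, ⊤) →ₗ[k] ((i : ι) → Γ((W i).toScheme, ⊤)) :=
    LinearMap.pi fun i => (φ i).toLinearMap
  have hΦ : Function.Injective Φ := by
    intro s t hst
    refine T.sheaf.eq_of_locally_eq' (fun i => (W i).ι ''ᵁ ⊤) ⊤ (fun i => homOfLE le_top) ?_ s t ?_
    · simp only [Scheme.Opens.ι_image_top, hW, le_refl]
    · intro i
      have h1 : (W i).ι.appTop.hom s = (W i).ι.appTop.hom t := congrFun hst i
      rw [Scheme.Opens.ι_appTop] at h1
      exact h1
  have hfi : ∀ i, Module.Finite k Γ((W i).toScheme, ⊤) := fun i => (h i).2.1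
  have hfr : ∀ i, Module.finrank k Γ((W i).toScheme, ⊤) ≤ n i := fun i => (h i).2.2
  have : ∀ i, Module.Free k Γ((W i).toScheme, ⊤) := fun i => Module.Free.of_divisionRing _ _
  refine ⟨h7, Module.Finite.of_injective Φ hΦ, ?_⟩
  refine (LinearMap.finrank_le_finrank_of_injective hΦ).trans ?_
  rw [Module.finrank_pi_fintype]
  exact Finset.sum_le_sum fun i _ => hfr i

theorem of_iSup {X Y : Scheme.{u}} (f : X ⟶ Y) {ι : Type u} [Fintype ι] (U : ι → X.Opens)
    (hU : iSup U = ⊤) (n : ι → ℕ) (h : ∀ i, BddFib.FibreDegLE ((U i).ι ≫ f) (n i)) :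
    BddFib.FibreDegLE f (∑ i, n i) := by
  intro y
  refine of_iSup_field (isField_residueField Y y) _ (fun i => f.fiberι y ⁻¹ᵁ U i) ?_ n ?_
  · rw [← Scheme.Hom.preimage_iSup, hU]; rfl
  · intro i
    have h1 : IsPullback (f.fiberι y ∣_ U i) (f.fiberι y ⁻¹ᵁ U i).ι (U i).ι (f.fiberι y) :=
      isPullback_morphismRestrict (f.fiberι y) (U i)
    have h2 : IsPullback (f.fiberι y) (f.fiberToSpecResidueField y) f (Y.fromSpecResidueField y) :=
      IsPullback.of_hasPullback _ _
    exact of_isPullback_field (h i) (isField_residueField Y y) (h1.paste_vert h2)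

/-- Finite morphisms to affine schemes have universally bounded fibres. -/
theorem of_isFinite {X Y : Scheme.{u}} (f : X ⟶ Y) [IsFinite f] [IsAffine Y] :
    BddFib.UnivBounded f := by
  have hX : IsAffine X := isAffine_of_isAffineHom f
  let : Algebra Γ(Y, ⊤) Γ(X, ⊤) := f.appTop.hom.toAlgebra
  have hfin : Module.Finite Γ(Y, ⊤) Γ(X, ⊤) := f.finite_appTop
  obtain ⟨n, φ, hφ⟩ := Module.Finite.exists_fin' Γ(Y, ⊤) Γ(X, ⊤)
  refine ⟨n, (fibreDegLE_iff f n).mpr fun k _ g => ?_⟩
  obtain ⟨ψ, hψ⟩ := Spec.map_surjective (g ≫ Y.isoSpec.hom)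
  let : Algebra Γ(Y, ⊤) k := ψ.hom.toAlgebra
  have h1 := isPullback_SpecMap_of_isPushout _ _ _ _
      (CommRingCat.isPushout_tensorProduct Γ(Y, ⊤) k Γ(X, ⊤))
  have h2 : IsPullback X.isoSpec.inv (Spec.map f.appTop) f Y.isoSpec.inv :=
      IsPullback.of_horiz_isIso ⟨(Scheme.isoSpec_inv_naturality f).symm⟩
  have h3 := h1.flip.paste_horiz h2
  have h4 : Spec.map (CommRingCat.ofHom (algebraMap Γ(Y, ⊤) k)) ≫ Y.isoSpec.inv = g := by
    have : Spec.map (CommRingCat.ofHom (algebraMap Γ(Y, ⊤) k)) = g ≫ Y.isoSpec.hom := hψ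
    rw [this, Category.assoc, Iso.hom_inv_id, Category.comp_id]
  rw [h4] at h3
  have h5 : BddFib.FiniteOfDegLE (CommRingCat.of k)
      (Spec.map (CommRingCat.ofHom (algebraMap k (k ⊗[Γ(Y, ⊤)] Γ(X, ⊤))))) n := by
    rw [finiteOfDegLE_Spec (Field.toIsField k)]
    refine ⟨inferInstance, ?_⟩
    have h6 : Function.Surjective (φ.baseChange k) := by
      exact LinearMap.lTensor_surjective k hφ
    refine (LinearMap.finrank_le_finrank_of_surjective h6).trans ?_
    rw [(TensorProduct.piScalarRight Γ(Y, ⊤) k k (Fin n)).finrank_eq, Module.finrank_pi]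
    simp
  have h6 : IsPullback (h3.isoPullback.inv) (pullback.snd f g)
      (Spec.map (CommRingCat.ofHom (algebraMap k (k ⊗[Γ(Y, ⊤)] Γ(X, ⊤))))) (𝟙 _) :=
    IsPullback.of_horiz_isIso ⟨(h3.isoPullback_inv_snd).trans (Category.comp_id _).symm⟩
  exact FiniteOfDegLE.baseChange (Field.toIsField k) (Field.toIsField k) h6 h5

theorem of_affine {X Y : Scheme.{u}} (f : X ⟶ Y) [LocallyQuasiFinite f] [LocallyOfFiniteType f]
    [IsAffine X] [IsAffine Y] : BddFib.UnivBounded f := by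
  obtain ⟨T, j, π, hT, hj, -, hπ, rfl⟩ := Groth.Agent.FlatA.ZMTFactor.exists_factor_of_isAffine f
  obtain ⟨n, hn⟩ := of_isFinite π
  exact ⟨1 * n, comp j π (of_isPreimmersion j) hn⟩

theorem univBounded {X Y : Scheme.{u}} (f : X ⟶ Y) [LocallyQuasiFinite f]
    [LocallyOfFiniteType f] [CompactSpace X] : BddFib.UnivBounded f := by
  have key : ∀ x : X, ∃ U : X.Opens, x ∈ U ∧ BddFib.UnivBounded (U.ι ≫ f) := by
    intro x
    obtain ⟨V, hV, hxV, -⟩ :=
      exists_isAffineOpen_mem_and_subset (TopologicalSpace.Opens.mem_top (f x))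
    obtain ⟨U, hU, hxU, hUV⟩ :=
      exists_isAffineOpen_mem_and_subset (U := f ⁻¹ᵁ V) (show x ∈ f ⁻¹ᵁ V from hxV)
    refine ⟨U, hxU, ?_⟩
    have h1 : IsAffine U.toScheme := hU
    have h2 : IsAffine V.toScheme := hV
    have hUV' : U ≤ f ⁻¹ᵁ V := hUV
    obtain ⟨n, hn⟩ := of_affine (f.resLE V U hUV')
    refine ⟨n * 1, ?_⟩
    rw [← Scheme.Hom.resLE_comp_ι f hUV']
    exact comp _ _ hn (of_isPreimmersion V.ι)
  choose U hxU n hn using key
  obtain ⟨s, hs⟩ := isCompact_univ.elim_nhds_subcover (fun x => (U x : Set X))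
    (fun x _ => (U x).isOpen.mem_nhds (hxU x))
  refine ⟨∑ x : {x // x ∈ s}, n x, of_iSup f (fun x : {x // x ∈ s} => U x) ?_ (fun x => n x)
    (fun x => hn x)⟩
  rw [eq_top_iff]
  intro x _
  obtain ⟨y, hy, hxy⟩ := Set.mem_iUnion₂.mp (hs.2 (Set.mem_univ x))
  exact TopologicalSpace.Opens.mem_iSup.mpr ⟨⟨y, hy⟩, hxy⟩

end K391.BddCover
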