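import Mathlib.RingTheory.Artinian.Ring
import Mathlib.RingTheory.Artinian.Module
import Mathlib.LinearAlgebra.TensorProduct.Quotient
import Mathlib.RingTheory.Ideal.Quotient.Operations
import Mathlib.RingTheory.Artinian.Algebra
import Mathlib.LinearAlgebra.Dimension.Constructions
import Mathlib.LinearAlgebra.Basis.VectorSpace
import Mathlib.LinearAlgebra.FreeModule.StrongRankCondition

/-!
Modules over Artinian rings whose fibres are generated by `n` elements.
-/

set_option autoImplicit false

open scoped TensorProduct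

namespace K391.BddAlg

variable {B M : Type*} [CommRing B] [AddCommGroup M] [Module B M]

/-- A module over an Artinian ring with `p M = M` for all maximal ideals `p` is zero. -/
theorem top_eq_bot_of_smul_top [IsArtinianRing B]
    (h : ∀ p : Ideal B, p.IsMaximal → p • (⊤ : Submodule B M) = ⊤) :
    (⊤ : Submodule B M) = ⊥ := by
  classical
  have : Fintype (MaximalSpectrum B) := Fintype.ofFinite _
  have h1 : ∀ s : Finset (MaximalSpectrum B), (∏ p ∈ s, p.asIdeal) • (⊤ : Submodule B M) = ⊤ := by
    intro s
    induction s using Finset.induction_on with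
    | empty => simp
    | insert a s ha ih =>
      rw [Finset.prod_insert ha, Submodule.mul_smul, ih]
      exact h a.asIdeal a.isMaximal
  set J : Ideal B := ∏ p : MaximalSpectrum B, p.asIdeal with hJ
  have h2 : ∀ k : ℕ, J ^ k • (⊤ : Submodule B M) = ⊤ := by
    intro k
    induction k with
    | zero => simp
    | succ k ih => rw [pow_succ, Submodule.mul_smul, h1 Finset.univ, ih]
  have h3 : J ≤ Ideal.jacobson ⊥ := by
    refine le_sInf fun q hq => ?_
    have hq' : q.IsMaximal := hq.2
    exact (Ideal.prod_le_inf).trans (Finset.inf_le (f := fun p : MaximalSpectrum B => p.asIdeal)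
      (Finset.mem_univ ⟨q, hq'⟩))
  obtain ⟨k, hk⟩ := IsArtinianRing.isNilpotent_jacobson_bot (R := B)
  have h4 : J ^ k = ⊥ := by
    rw [← le_bot_iff]
    exact (Ideal.pow_right_mono h3 k).trans hk.le
  rw [← h2 k, h4, Submodule.bot_smul]

/-- If all fibres of a module over an Artinian ring are generated by `n` elements, so is the
module. -/
theorem exists_span [IsArtinianRing B] (n : ℕ)
    (h : ∀ p : Ideal B, p.IsMaximal →
      ∃ c : Fin n → M, Submodule.span B (Set.range c) ⊔ p • (⊤ : Submodule B M) = ⊤) :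
    ∃ c : Fin n → M, Submodule.span B (Set.range c) = ⊤ := by
  classical
  have : Fintype (MaximalSpectrum B) := Fintype.ofFinite _
  choose c hc using fun p : MaximalSpectrum B => h p.asIdeal p.isMaximal
  have hcop : Pairwise (Function.onFun IsCoprime fun p : MaximalSpectrum B => p.asIdeal) := by
    intro p q hpq
    exact Ideal.isCoprime_iff_sup_eq.mpr (p.isMaximal.coprime_of_ne q.isMaximal
      fun h => hpq (MaximalSpectrum.ext h))
  have he : ∀ p : MaximalSpectrum B, ∃ e : B, 1 - e ∈ p.asIdeal ∧ ∀ q, q ≠ p → e ∈ q.asIdeal := by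
    intro p
    obtain ⟨e, he⟩ := Ideal.exists_forall_sub_mem_ideal hcop
      (fun q => if q = p then (1 : B) else 0)
    refine ⟨e, ?_, fun q hq => ?_⟩
    · have := he p
      rw [if_pos rfl] at this
      rw [← neg_sub e 1]
      exact neg_mem this
    · have := he q
      rwa [if_neg hq, sub_zero] at this
  choose e he1 he2 using he
  let c' : Fin n → M := fun j => ∑ p, e p • c p j
  have hc' : ∀ (p : MaximalSpectrum B) (j : Fin n), c p j - c' j ∈ p.asIdeal • (⊤ : Submodule B M) := by
    intro p j
    have h1 : c p j - c' j = (1 - e p) • c p j - ∑ q ∈ Finset.univ.erase p, e q • c q j := by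
      have : c' j = e p • c p j + ∑ q ∈ Finset.univ.erase p, e q • c q j :=
        (Finset.add_sum_erase Finset.univ (fun q => e q • c q j) (Finset.mem_univ p)).symm
      rw [this, sub_smul, one_smul]
      abel
    rw [h1]
    refine Submodule.sub_mem _ (Submodule.smul_mem_smul (he1 p) Submodule.mem_top) ?_
    refine Submodule.sum_mem _ fun q hq => ?_
    exact Submodule.smul_mem_smul (he2 q p (Finset.ne_of_mem_erase hq).symm) Submodule.mem_top
  refine ⟨c', ?_⟩
  set N := Submodule.span B (Set.range c') with hN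
  have key : ∀ p : MaximalSpectrum B, N ⊔ p.asIdeal • (⊤ : Submodule B M) = ⊤ := by
    intro p
    have h0 : Submodule.span B (Set.range (c p)) ⊔ p.asIdeal • (⊤ : Submodule B M) ≤
        N ⊔ p.asIdeal • (⊤ : Submodule B M) := by
      refine sup_le (Submodule.span_le.mpr ?_) le_sup_right
      rintro _ ⟨j, rfl⟩
      have h1 : c p j = c' j + (c p j - c' j) := by abel
      have h2 : c' j + (c p j - c' j) ∈ N ⊔ p.asIdeal • (⊤ : Submodule B M) :=
        Submodule.add_mem_sup (Submodule.subset_span ⟨j, rfl⟩) (hc' p j)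
      rw [← h1] at h2
      exact h2
    rw [hc p] at h0
    exact top_le_iff.mp h0
  have h1 : (⊤ : Submodule B (M ⧸ N)) = ⊥ := by
    refine top_eq_bot_of_smul_top fun p hp => ?_
    have h2 := congrArg (Submodule.map N.mkQ) (key ⟨p, hp⟩)
    rw [Submodule.map_sup, Submodule.map_smul'', Submodule.map_top, Submodule.range_mkQ,
      Submodule.mkQ_map_self, bot_sup_eq] at h2
    exact h2
  rw [← Submodule.ker_mkQ N, LinearMap.ker_eq_top]
  ext x
  have : N.mkQ x ∈ (⊤ : Submodule B (M ⧸ N)) := Submodule.mem_top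
  rw [h1] at this
  simpa using this

/-- Lifting generators of a fibre. -/
theorem exists_span_fibre {p : Ideal B} (hp : p.IsMaximal) (n : ℕ)
    (h1 : letI := Ideal.Quotient.field p; Module.Finite (B ⧸ p) ((B ⧸ p) ⊗[B] M))
    (h2 : Module.finrank (B ⧸ p) ((B ⧸ p) ⊗[B] M) ≤ n) :
    ∃ c : Fin n → M, Submodule.span B (Set.range c) ⊔ p • (⊤ : Submodule B M) = ⊤ := by
  let := Ideal.Quotient.field p
  have hfree : Module.Free (B ⧸ p) ((B ⧸ p) ⊗[B] M) := Module.Free.of_divisionRing _ _
  obtain ⟨v, hv⟩ : ∃ v : Fin n → ((B ⧸ p) ⊗[B] M), Submodule.span (B ⧸ p) (Set.range v) = ⊤ := by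
    let b := Module.finBasis (B ⧸ p) ((B ⧸ p) ⊗[B] M)
    refine ⟨fun i => if h : i.1 < Module.finrank (B ⧸ p) ((B ⧸ p) ⊗[B] M) then b ⟨i, h⟩ else 0, ?_⟩
    rw [eq_top_iff, ← b.span_eq, Submodule.span_le]
    rintro _ ⟨i, rfl⟩
    refine Submodule.subset_span ⟨⟨i, i.2.trans_le h2⟩, ?_⟩
    simp
  have hv' : Submodule.span B (Set.range v) = ⊤ := by
    have h3 : Function.Surjective (algebraMap B (B ⧸ p)) := Ideal.Quotient.mk_surjective
    rw [← Submodule.restrictScalars_span B (B ⧸ p) h3, hv, Submodule.restrictScalars_top]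
  let e := TensorProduct.quotTensorEquivQuotSMul M p
  have hlift : ∀ i, ∃ c : M, Submodule.Quotient.mk c = e (v i) :=
    fun i => Submodule.Quotient.mk_surjective _ _
  choose c hc using hlift
  refine ⟨c, ?_⟩
  rw [sup_comm, ← Submodule.map_mkQ_eq_top, Submodule.map_span]
  have h4 : (p • (⊤ : Submodule B M)).mkQ '' Set.range c = e.toLinearMap '' Set.range v := by
    rw [← Set.range_comp, ← Set.range_comp]
    congr 1
    funext i
    exact hc i
  rw [h4, ← Submodule.map_span, hv', Submodule.map_top, LinearMap.range_eq_top]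
  exact e.surjective

/-- Degrees multiply at most. -/
theorem finrank_le_mul {k C : Type*} [Field k] [Algebra k B] [Module.Finite k B] [CommRing C]
    [Algebra B C] [Algebra k C] [IsScalarTower k B C] (n : ℕ)
    (h : ∀ (p : Ideal B), p.IsMaximal → Module.Finite (B ⧸ p) ((B ⧸ p) ⊗[B] C) ∧
      Module.finrank (B ⧸ p) ((B ⧸ p) ⊗[B] C) ≤ n) :
    Module.Finite k C ∧ Module.finrank k C ≤ n * Module.finrank k B := by
  have hB : IsArtinianRing B := IsArtinianRing.of_finite k B
  obtain ⟨c, hc⟩ := exists_span (B := B) (M := C) n fun p hp =>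
    exists_span_fibre hp n (h p hp).1 (h p hp).2
  let φ : (Fin n → B) →ₗ[B] C := Fintype.linearCombination B c
  have hφ : Function.Surjective φ := by
    rw [← LinearMap.range_eq_top, Fintype.range_linearCombination, hc]
  let φ' : (Fin n → B) →ₗ[k] C := φ.restrictScalars k
  have hφ' : Function.Surjective φ' := hφ
  refine ⟨Module.Finite.of_surjective φ' hφ', ?_⟩
  refine (LinearMap.finrank_le_finrank_of_surjective hφ').trans ?_
  have : Module.Free k B := Module.Free.of_divisionRing _ _
  rw [Module.finrank_pi_fintype]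
  simp

end K391.BddAlg
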