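import Groth.Prelude.Def_W4stkschemesremainderFib
import Mathlib.AlgebraicGeometry.Morphisms.FlatRank
import Mathlib.AlgebraicGeometry.Morphisms.QuasiFinite
import Mathlib.AlgebraicGeometry.Morphisms.FlatDescent
import Mathlib.AlgebraicGeometry.Morphisms.LocalFlatDescent

/-!
Basic facts on `BddFib.FiniteOfDegLE` and `BddFib.FibreDegLE`.
-/

set_option autoImplicit false
universe u
open CategoryTheory AlgebraicGeometry Limits

namespace K391.BddBasic

theorem eq_toSpecΓ_comp (K : CommRingCat.{u}) {T : Scheme.{u}} (p : T ⟶ Spec K) :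
    p = T.toSpecΓ ≫ Spec.map ((Scheme.ΓSpecIso K).inv ≫ p.appTop) := by
  rw [Spec.map_comp, ← Category.assoc, ← Scheme.toSpecΓ_naturality, Category.assoc,
    toSpecΓ_SpecMap_ΓSpecIso_inv, Category.comp_id]

theorem isIntegral_Spec {K : CommRingCat.{u}} (hK : IsField K) : IsIntegral (Spec K) := by
  let := hK.toField
  have : IsDomain K := hK.isDomain
  infer_instance

theorem subsingleton_Spec {K : CommRingCat.{u}} (hK : IsField K) : Subsingleton (Spec K) := by
  let := hK.toField
  exact inferInstanceAs (Subsingleton (PrimeSpectrum K))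

theorem flat {K : CommRingCat.{u}} (hK : IsField K) {T : Scheme.{u}} (p : T ⟶ Spec K) :
    Flat p := by
  have := isIntegral_Spec hK
  have := subsingleton_Spec hK
  infer_instance

theorem finrank_eq {K : CommRingCat.{u}} (hK : IsField K) {B : CommRingCat.{u}} (φ : K ⟶ B)
    (hφ : φ.hom.Finite) (y : Spec K) :
    (Spec.map φ).finrank y = @Module.finrank K B _ _ φ.hom.toAlgebra.toModule := by
  have hf : φ.hom.Flat := by
    rw [← Flat.SpecMap_iff]; exact flat hK _
  rw [Scheme.Hom.finrank_SpecMap_eq_finrank hφ hf]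
  let := hK.toField
  let : Algebra K B := φ.hom.toAlgebra
  have : Module.Finite K B := hφ
  have : Module.Free K B := Module.Free.of_divisionRing K B
  have h1 : φ.hom = algebraMap K B := rfl
  rw [h1, RingHom.finrank_algebraMap, Module.rankAtStalk_eq_finrank_of_free]
  rfl

/-- `FiniteOfDegLE` over a field in terms of finite morphisms and their rank. -/
theorem finiteOfDegLE_iff {K : CommRingCat.{u}} (hK : IsField K) {T : Scheme.{u}}
    (p : T ⟶ Spec K) (n : ℕ) :
    BddFib.FiniteOfDegLE K p n ↔ IsFinite p ∧ ∀ y, p.finrank y ≤ n := by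
  have hne : Nonempty (Spec K) := by
    let := hK.toField
    exact inferInstanceAs (Nonempty (PrimeSpectrum K))
  have key : ∀ [IsAffine T], IsFinite p ↔ ((Scheme.ΓSpecIso K).inv ≫ p.appTop).hom.Finite := by
    intro _
    have h1 : IsFinite p ↔ IsFinite (T.toSpecΓ ≫ Spec.map ((Scheme.ΓSpecIso K).inv ≫ p.appTop)) := by
      rw [← eq_toSpecΓ_comp]
    rw [h1, ← IsFinite.SpecMap_iff]
    have : MorphismProperty.RespectsIso (@IsFinite.{u}) :=
      MorphismProperty.IsStableUnderBaseChange.respectsIso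
    exact MorphismProperty.cancel_left_of_respectsIso (P := @IsFinite.{u}) _ _
  have key2 : ∀ [IsAffine T], IsFinite p → ∀ y, p.finrank y =
      @Module.finrank K Γ(T, ⊤) _ _ (BddFib.secAlgebra K p).toModule := by
    intro _ hp y
    have h2 := key.mp hp
    have h3 : p.finrank = (T.toSpecΓ ≫ Spec.map ((Scheme.ΓSpecIso K).inv ≫ p.appTop)).finrank := by
      rw [← eq_toSpecΓ_comp]
    have := flat hK (Spec.map ((Scheme.ΓSpecIso K).inv ≫ p.appTop))
    have := (IsFinite.SpecMap_iff (f := (Scheme.ΓSpecIso K).inv ≫ p.appTop)).mpr h2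
    rw [h3, Scheme.Hom.finrank_comp_left_of_isIso, finrank_eq hK _ h2]
    rfl
  constructor
  · rintro ⟨h1, h2, h3⟩
    have h4 : IsFinite p := key.mpr h2
    exact ⟨h4, fun y => (key2 h4 y).le.trans h3⟩
  · rintro ⟨h1, h2⟩
    have h3 : IsAffine T := isAffine_of_isAffineHom p
    refine ⟨h3, key.mp h1, ?_⟩
    obtain ⟨y⟩ := hne
    exact (key2 h1 y).ge.trans (h2 y)

/-- Base change of `FiniteOfDegLE` along field extensions. -/
theorem FiniteOfDegLE.baseChange {K K' : CommRingCat.{u}} (hK : IsField K) (hK' : IsField K')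
    {T T' : Scheme.{u}} {p : T ⟶ Spec K} {p' : T' ⟶ Spec K'} {g' : T' ⟶ T} {g : Spec K' ⟶ Spec K}
    (h : IsPullback g' p' p g) {n : ℕ} (hp : BddFib.FiniteOfDegLE K p n) :
    BddFib.FiniteOfDegLE K' p' n := by
  rw [finiteOfDegLE_iff hK] at hp
  rw [finiteOfDegLE_iff hK']
  obtain ⟨h1, h2⟩ := hp
  have := flat hK p
  refine ⟨MorphismProperty.of_isPullback h h1, fun y => ?_⟩
  rw [Scheme.Hom.finrank_of_isPullback _ _ _ _ h]
  exact h2 _

theorem finite_of_descent {K K' : CommRingCat.{u}} (hK : IsField K) (hK' : IsField K')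
    {T T' : Scheme.{u}} {p : T ⟶ Spec K} {p' : T' ⟶ Spec K'} {g' : T' ⟶ T} {g : Spec K' ⟶ Spec K}
    (h : IsPullback g' p' p g) (hp : IsFinite p') : IsFinite p := by
  have := isIntegral_Spec hK
  have := subsingleton_Spec hK
  have hg1 : Flat g := flat hK g
  have hne : Nonempty (Spec K') := by
    let := hK'.toField
    exact inferInstanceAs (Nonempty (PrimeSpectrum K'))
  have hg2 : Surjective g := ⟨fun y => by
    obtain ⟨x⟩ := hne
    exact ⟨x, Subsingleton.elim _ _⟩⟩
  have hg3 : QuasiCompact g := inferInstance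
  have h1 : LocallyOfFiniteType p := by
    refine MorphismProperty.of_isPullback_of_descendsAlong (P := @LocallyOfFiniteType)
      (Q := @Surjective ⊓ @Flat ⊓ @QuasiCompact) h.flip ⟨⟨hg2, hg1⟩, hg3⟩ ?_
    infer_instance
  have hs : Surjective g' := MorphismProperty.of_isPullback h.flip hg2
  have hfin' : Finite T' := by
    let := hK'.toField
    have h5 : IsArtinianRing K' := inferInstance
    have h6 : IsArtinianScheme (Spec K') := inferInstance
    have h7 : IsLocallyArtinian T' := IsLocallyArtinian.of_locallyQuasiFinite p'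
    have h8 : CompactSpace T' := QuasiCompact.compactSpace_of_compactSpace p'
    exact finite_of_compact_of_discrete
  have hfin : Finite T := Finite.of_surjective g' hs.surj
  have h2 : LocallyQuasiFinite p :=
    LocallyQuasiFinite.of_finite_preimage_singleton p fun x => Set.toFinite _
  have h3 : QuasiCompact p := by
    have : CompactSpace T := inferInstance
    infer_instance
  let := hK.toField
  have h5 : IsArtinianRing K := inferInstance
  have h6 : IsArtinianScheme (Spec K) := inferInstance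
  exact IsFinite.of_locallyQuasiFinite p

/-- Descent of `FiniteOfDegLE` along field extensions. -/
theorem FiniteOfDegLE.descend {K K' : CommRingCat.{u}} (hK : IsField K) (hK' : IsField K')
    {T T' : Scheme.{u}} {p : T ⟶ Spec K} {p' : T' ⟶ Spec K'} {g' : T' ⟶ T} {g : Spec K' ⟶ Spec K}
    (h : IsPullback g' p' p g) {n : ℕ} (hp : BddFib.FiniteOfDegLE K' p' n) :
    BddFib.FiniteOfDegLE K p n := by
  rw [finiteOfDegLE_iff hK'] at hp
  rw [finiteOfDegLE_iff hK]
  obtain ⟨h1, h2⟩ := hp
  have := subsingleton_Spec hK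
  have := flat hK p
  have h3 := finite_of_descent hK hK' h h1
  refine ⟨h3, fun y => ?_⟩
  have hne : Nonempty (Spec K') := by
    let := hK'.toField
    exact inferInstanceAs (Nonempty (PrimeSpectrum K'))
  obtain ⟨x⟩ := hne
  have h4 := h2 x
  rw [Scheme.Hom.finrank_of_isPullback _ _ _ _ h] at h4
  rwa [Subsingleton.elim y (g x)]

theorem FiniteOfDegLE.iff_of_isPullback {K K' : CommRingCat.{u}} (hK : IsField K)
    (hK' : IsField K')
    {T T' : Scheme.{u}} {p : T ⟶ Spec K} {p' : T' ⟶ Spec K'} {g' : T' ⟶ T} {g : Spec K' ⟶ Spec K}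
    (h : IsPullback g' p' p g) {n : ℕ} :
    BddFib.FiniteOfDegLE K' p' n ↔ BddFib.FiniteOfDegLE K p n :=
  ⟨FiniteOfDegLE.descend hK hK' h, FiniteOfDegLE.baseChange hK hK' h⟩

end K391.BddBasic
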