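import Groth.Agent.BddFib.K391.Points
import Groth.Agent.BddFib.K391.Alg

/-!
Composition of morphisms with bounded fibre degrees.
-/

set_option autoImplicit false
universe u
open CategoryTheory AlgebraicGeometry Limits
open scoped TensorProduct

namespace K391.BddComp

open K391.BddBasic K391.BddFibre K391.BddPoints

theorem finiteOfDegLE_Spec {K D : Type u} [CommRing K] (hK : IsField K) [CommRing D] [Algebra K D]
    (n : ℕ) :
    BddFib.FiniteOfDegLE (CommRingCat.of K) (Spec.map (CommRingCat.ofHom (algebraMap K D))) n ↔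
      Module.Finite K D ∧ Module.finrank K D ≤ n := by
  let := hK.toField
  rw [finiteOfDegLE_iff (K := CommRingCat.of K) hK, IsFinite.SpecMap_iff]
  have h0 : (CommRingCat.ofHom (algebraMap K D)).hom.Finite ↔ Module.Finite K D := by
    rw [CommRingCat.hom_ofHom, RingHom.finite_algebraMap]
  have hfr : ∀ (h1 : Module.Finite K D) (y : Spec (CommRingCat.of K)),
      (Spec.map (CommRingCat.ofHom (algebraMap K D))).finrank y = Module.finrank K D := by
    intro h1 y
    have := finrank_eq (K := CommRingCat.of K) hK (CommRingCat.ofHom (algebraMap K D))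
      (h0.mpr h1) y
    rw [this]
    congr!
    exact Algebra.algebra_ext _ _ fun r => rfl
  constructor
  · rintro ⟨h1, h2⟩
    have h1' := h0.mp h1
    let pt : Spec (CommRingCat.of K) := IsLocalRing.closedPoint K
    exact ⟨h1', (hfr h1' pt).ge.trans (h2 pt)⟩
  · rintro ⟨h1, h2⟩
    exact ⟨h0.mpr h1, fun y => (hfr h1 y).le.trans h2⟩

theorem locallyQuasiFinite {X Y : Scheme.{u}} {f : X ⟶ Y} {n : ℕ} (hf : BddFib.FibreDegLE f n) :
    LocallyQuasiFinite f := by
  refine LocallyQuasiFinite.of_fiberToSpecResidueField f fun y => ?_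
  have := ((finiteOfDegLE_iff (isField_residueField Y y) _ _).mp (hf y)).1
  infer_instance

theorem finite_preimage {X Y : Scheme.{u}} {f : X ⟶ Y} {n : ℕ} (hf : BddFib.FibreDegLE f n)
    (y : Y) : (f ⁻¹' {y}).Finite := by
  have h1 := (finsum_residueDegree_le (k := Y.residueField y) _ (hf y)).1
  rw [← Scheme.Hom.range_fiberι]
  exact Set.finite_range _

theorem comp_field {k : CommRingCat.{u}} (hk : IsField k) {X Y : Scheme.{u}} (f : X ⟶ Y)
    (g : Y ⟶ Spec k) {n m : ℕ} (hf : BddFib.FibreDegLE f n) (hg : BddFib.FiniteOfDegLE k g m) :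
    BddFib.FiniteOfDegLE k (f ≫ g) (n * m) := by
  let := hk.toField
  have hgf : IsFinite g := ((finiteOfDegLE_iff hk _ _).mp hg).1
  obtain ⟨hY1, hY2⟩ := finite_of_isFinite (k := k) g
  have hX1 : Finite X := by
    have h1 : (f ⁻¹' (Set.univ : Set Y)).Finite :=
      Set.finite_univ.preimage' fun y _ => finite_preimage hf y
    exact Set.finite_univ_iff.mp h1
  have hf1 : LocallyQuasiFinite f := locallyQuasiFinite hf
  have hX2 : IsLocallyArtinian X := IsLocallyArtinian.of_locallyQuasiFinite f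
  have hX3 : IsAffine X := inferInstance
  have hY3 : IsAffine Y := hg.1
  let : Algebra k Γ(Y, ⊤) := BddFib.secAlgebra k g
  let : Algebra Γ(Y, ⊤) Γ(X, ⊤) := f.appTop.hom.toAlgebra
  let : Algebra k Γ(X, ⊤) := BddFib.secAlgebra k (f ≫ g)
  have : IsScalarTower k Γ(Y, ⊤) Γ(X, ⊤) := by
    refine IsScalarTower.of_algebraMap_eq' ?_
    change ((Scheme.ΓSpecIso k).inv ≫ (f ≫ g).appTop).hom =
      f.appTop.hom.comp ((Scheme.ΓSpecIso k).inv ≫ g.appTop).hom
    rw [Scheme.Hom.comp_appTop, ← CommRingCat.hom_comp, Category.assoc]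
  have hfin : Module.Finite k Γ(Y, ⊤) := hg.2.1
  have key : ∀ (p : Ideal Γ(Y, ⊤)), p.IsMaximal →
      Module.Finite (Γ(Y, ⊤) ⧸ p) ((Γ(Y, ⊤) ⧸ p) ⊗[Γ(Y, ⊤)] Γ(X, ⊤)) ∧
      Module.finrank (Γ(Y, ⊤) ⧸ p) ((Γ(Y, ⊤) ⧸ p) ⊗[Γ(Y, ⊤)] Γ(X, ⊤)) ≤ n := by
    intro p hp
    have hK : IsField (Γ(Y, ⊤) ⧸ p) := (Ideal.Quotient.maximal_ideal_iff_isField_quotient p).mp hp
    rw [← finiteOfDegLE_Spec hK]
    have h1 := isPullback_SpecMap_of_isPushout _ _ _ _
      (CommRingCat.isPushout_tensorProduct Γ(Y, ⊤) (Γ(Y, ⊤) ⧸ p) Γ(X, ⊤))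
    have h2 : IsPullback X.isoSpec.inv (Spec.map f.appTop) f Y.isoSpec.inv :=
      IsPullback.of_horiz_isIso ⟨(Scheme.isoSpec_inv_naturality f).symm⟩
    have h3 := h1.flip.paste_horiz h2
    exact of_isPullback_field hf (k := CommRingCat.of (Γ(Y, ⊤) ⧸ p)) hK h3
  have hmain := K391.BddAlg.finrank_le_mul (k := k) (B := Γ(Y, ⊤)) (C := Γ(X, ⊤)) n key
  exact ⟨hX3, hmain.1, hmain.2.trans (Nat.mul_le_mul_left n hg.2.2)⟩

theorem comp {X Y Z : Scheme.{u}} (f : X ⟶ Y) (g : Y ⟶ Z) {n m : ℕ}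
    (hf : BddFib.FibreDegLE f n) (hg : BddFib.FibreDegLE g m) :
    BddFib.FibreDegLE (f ≫ g) (n * m) := by
  intro z
  have h1 : IsPullback (pullback.fst g (Z.fromSpecResidueField z)) (pullback.snd g _) g
    (Z.fromSpecResidueField z) := IsPullback.of_hasPullback _ _
  have h2 : IsPullback (pullback.fst f (pullback.fst g (Z.fromSpecResidueField z)))
    (pullback.snd f _) f (pullback.fst g (Z.fromSpecResidueField z)) :=
      IsPullback.of_hasPullback _ _
  have h3 := comp_field (isField_residueField Z z) _ _ (of_isPullback h2 hf) (hg z)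
  have h4 : IsPullback (pullback.fst f (pullback.fst g (Z.fromSpecResidueField z)))
      (pullback.snd f _ ≫ pullback.snd g (Z.fromSpecResidueField z)) (f ≫ g)
      (Z.fromSpecResidueField z) := h2.paste_vert h1
  have h5 : IsPullback (h4.isoPullback.inv) (pullback.snd (f ≫ g) (Z.fromSpecResidueField z))
      (pullback.snd f _ ≫ pullback.snd g (Z.fromSpecResidueField z)) (𝟙 _) :=
    IsPullback.of_horiz_isIso ⟨(h4.isoPullback_inv_snd).trans (Category.comp_id _).symm⟩
  exact FiniteOfDegLE.baseChange (isField_residueField Z z) (isField_residueField Z z) h5 h3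

end K391.BddComp
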