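import Groth.Agent.BddFib.K391.Points
import Groth.Agent.Etbc.H218.DiscreteSplit

/-!
Fibre degree bounds for étale morphisms from point counts.
-/

set_option autoImplicit false
universe u
open CategoryTheory AlgebraicGeometry Limits

namespace K391.BddEtale

open K391.BddBasic K391.BddFibre K391.BddPoints

theorem isFinite_of_finite {k : CommRingCat.{u}} (hk : IsField k) {T : Scheme.{u}}
    (p : T ⟶ Spec k) [LocallyOfFiniteType p] [Finite T] : IsFinite p := by
  let := hk.toField
  have h2 : LocallyQuasiFinite p :=
    LocallyQuasiFinite.of_finite_preimage_singleton p fun x => Set.toFinite _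
  have h3 : QuasiCompact p := by
    have : CompactSpace T := inferInstance
    infer_instance
  have h5 : IsArtinianRing k := inferInstance
  have h6 : IsArtinianScheme (Spec k) := inferInstance
  exact IsFinite.of_locallyQuasiFinite p

theorem of_etale {X Y : Scheme.{u}} (f : X ⟶ Y) [Etale f] (n : ℕ)
    (h : ∀ (k : Type u) [Field k] (g : Spec (CommRingCat.of k) ⟶ Y),
      Finite ↥(Limits.pullback f g) ∧ Nat.card ↥(Limits.pullback f g) ≤ n) :
    BddFib.FibreDegLE f n := by
  refine of_forall_exists_field fun y => ?_
  let k := AlgebraicClosure (Y.residueField y)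
  let φ : Y.residueField y ⟶ CommRingCat.of k :=
    CommRingCat.ofHom (algebraMap (Y.residueField y) k)
  let g : Spec (CommRingCat.of k) ⟶ Y := Spec.map φ ≫ Y.fromSpecResidueField y
  refine ⟨CommRingCat.of k, Field.toIsField k, φ, pullback f g, pullback.fst f g,
    pullback.snd f g, IsPullback.of_hasPullback f g, ?_⟩
  obtain ⟨h1, h2⟩ := h k g
  rw [finiteOfDegLE_iff (K := CommRingCat.of k) (Field.toIsField k)]
  have het : Etale (pullback.snd f g) := inferInstance
  have hfin : IsFinite (pullback.snd f g) :=
    isFinite_of_finite (k := CommRingCat.of k) (Field.toIsField k) _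
  refine ⟨hfin, fun z => ?_⟩
  rw [← Groth.Agent.Etbc.H218.DiscreteSplit.card_eq_finrank (pullback.snd f g) z]
  exact h2

end K391.BddEtale
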