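import Groth.Agent.BddFib.K391.Basic

/-!
Fibre degree bounds: field points, base change, descent.
-/

set_option autoImplicit false
universe u
open CategoryTheory AlgebraicGeometry Limits

namespace K391.BddFibre

open K391.BddBasic

variable {X Y : Scheme.{u}}

theorem isField_residueField (Y : Scheme.{u}) (y : Y) : IsField (Y.residueField y) :=
  Field.toIsField _

/-- Every base change to a field satisfies the bound. -/
theorem of_isPullback_field {f : X ⟶ Y} {n : ℕ} (h : BddFib.FibreDegLE f n)
    {k : CommRingCat.{u}} (hk : IsField k) {T : Scheme.{u}} {g : Spec k ⟶ Y} {p : T ⟶ Spec k}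
    {q : T ⟶ X} (hpb : IsPullback q p f g) : BddFib.FiniteOfDegLE k p n := by
  let := hk.toField
  let y : Y := g (IsLocalRing.closedPoint k)
  let φ : Y.residueField y ⟶ k := Scheme.descResidueField (K := k) (Scheme.stalkClosedPointTo g)
  have hg : Spec.map φ ≫ Y.fromSpecResidueField y = g :=
    Scheme.descResidueField_stalkClosedPointTo_fromSpecResidueField k Y g
  have hpb' : IsPullback (pullback.lift q (p ≫ Spec.map φ)
      (by rw [Category.assoc, hg, hpb.w])) p (f.fiberToSpecResidueField y) (Spec.map φ) := by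
    refine IsPullback.of_right (h₁₂ := pullback.fst _ _) (h₂₂ := Y.fromSpecResidueField y)
      (v₁₃ := f) ?_ ?_ (IsPullback.of_hasPullback f (Y.fromSpecResidueField y))
    · rw [pullback.lift_fst, hg]; exact hpb
    · exact pullback.lift_snd _ _ _
  exact FiniteOfDegLE.baseChange (isField_residueField Y y) hk hpb' (h y)

/-- Field point criterion. -/
theorem fibreDegLE_iff (f : X ⟶ Y) (n : ℕ) :
    BddFib.FibreDegLE f n ↔ ∀ (k : Type u) [Field k] (g : Spec (CommRingCat.of k) ⟶ Y),
      BddFib.FiniteOfDegLE (CommRingCat.of k) (Limits.pullback.snd f g) n := by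
  constructor
  · intro h k _ g
    exact of_isPullback_field h (Field.toIsField k) (IsPullback.of_hasPullback f g)
  · intro h y
    exact h (Y.residueField y) (Y.fromSpecResidueField y)

/-- Stability under base change. -/
theorem of_isPullback {X' Y' : Scheme.{u}} {f : X ⟶ Y} {g : Y' ⟶ Y} {f' : X' ⟶ Y'}
    {g' : X' ⟶ X} (h : IsPullback g' f' f g) {n : ℕ} (hf : BddFib.FibreDegLE f n) :
    BddFib.FibreDegLE f' n := by
  intro y'
  exact of_isPullback_field hf (isField_residueField Y' y')
    ((IsPullback.of_hasPullback f' (Y'.fromSpecResidueField y')).paste_horiz h)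

/-- Descent along surjective morphisms. -/
theorem of_isPullback_of_surjective {X' Y' : Scheme.{u}} {f : X ⟶ Y} {g : Y' ⟶ Y} [Surjective g]
    {f' : X' ⟶ Y'} {g' : X' ⟶ X} (h : IsPullback g' f' f g) {n : ℕ}
    (hf' : BddFib.FibreDegLE f' n) :
    BddFib.FibreDegLE f n := by
  intro y
  obtain ⟨y', rfl⟩ := g.surjective y
  exact FiniteOfDegLE.descend (isField_residueField Y _) (isField_residueField Y' y')
    (isPullback_fiberToSpecResidueField_of_isPullback h y') (hf' y')

/-- To bound the fibre degree at `y` one may extend the residue field. -/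
theorem of_forall_exists_field {f : X ⟶ Y} {n : ℕ}
    (h : ∀ y : Y, ∃ (k : CommRingCat.{u}) (_ : IsField k) (φ : Y.residueField y ⟶ k)
      (T : Scheme.{u}) (q : T ⟶ X) (p : T ⟶ Spec k)
      (_ : IsPullback q p f (Spec.map φ ≫ Y.fromSpecResidueField y)),
      BddFib.FiniteOfDegLE k p n) : BddFib.FibreDegLE f n := by
  intro y
  obtain ⟨k, hk, φ, T, q, p, hpb, hT⟩ := h y
  have hpb' : IsPullback (pullback.lift q (p ≫ Spec.map φ)
      (by rw [Category.assoc, hpb.w])) p (f.fiberToSpecResidueField y) (Spec.map φ) := by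
    refine IsPullback.of_right (h₁₂ := pullback.fst _ _) (h₂₂ := Y.fromSpecResidueField y)
      (v₁₃ := f) ?_ ?_ (IsPullback.of_hasPullback f (Y.fromSpecResidueField y))
    · rw [pullback.lift_fst]; exact hpb
    · exact pullback.lift_snd _ _ _
  exact FiniteOfDegLE.descend (isField_residueField Y y) hk hpb' hT

theorem mono {f : X ⟶ Y} {n m : ℕ} (hnm : n ≤ m) (h : BddFib.FibreDegLE f n) :
    BddFib.FibreDegLE f m :=
  fun y => ⟨(h y).1, (h y).2.1, (h y).2.2.trans hnm⟩

/-- A closed subscheme of the spectrum of a field has degree at most one. -/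
theorem finiteOfDegLE_one_of_isClosedImmersion {K : CommRingCat.{u}} (hK : IsField K)
    {T : Scheme.{u}} (p : T ⟶ Spec K) [IsClosedImmersion p] : BddFib.FiniteOfDegLE K p 1 := by
  obtain ⟨h1, h2⟩ := IsClosedImmersion.isAffine_surjective_of_isAffine p
  let := hK.toField
  let : Algebra K Γ(T, ⊤) := BddFib.secAlgebra K p
  have h3 : Function.Surjective (algebraMap K Γ(T, ⊤)) := by
    have : Function.Surjective ((Scheme.ΓSpecIso K).inv ≫ p.appTop).hom := by
      rw [CommRingCat.hom_comp]
      exact h2.comp (ConcreteCategory.bijective_of_isIso (Scheme.ΓSpecIso K).inv).2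
    exact this
  refine ⟨h1, Module.Finite.of_surjective (Algebra.linearMap K Γ(T, ⊤)) h3, ?_⟩
  refine finrank_le_one (1 : Γ(T, ⊤)) fun w => ?_
  obtain ⟨c, rfl⟩ := h3 w
  exact ⟨c, (Algebra.algebraMap_eq_smul_one c).symm⟩

/-- The fibre of an immersion over a field point has degree at most one. -/
theorem of_isPreimmersion (f : X ⟶ Y) [IsPreimmersion f] : BddFib.FibreDegLE f 1 := by
  intro y
  have h2 : IsClosedImmersion (f.fiberToSpecResidueField y) :=
    .of_isPreimmersion (pullback.snd _ _) (isClosed_discrete _)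
  exact finiteOfDegLE_one_of_isClosedImmersion (isField_residueField Y y) _

end K391.BddFibre
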