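import Groth.Agent.BddFib.K391.Comp
import Mathlib.AlgebraicGeometry.Morphisms.Flat
import Mathlib.RingTheory.RingHom.FaithfullyFlat

/-!
Fibre degree bounds descend along flat surjective morphisms (on the source).
-/

set_option autoImplicit false
universe u
open CategoryTheory AlgebraicGeometry Limits

namespace K391.BddFlat

open K391.BddBasic K391.BddFibre K391.BddPoints K391.BddComp

/-- The affine case. -/
theorem of_affine {k : CommRingCat.{u}} (hk : IsField k) {X Y : Scheme.{u}} (f : X ⟶ Y)
    (h : Y ⟶ Spec k) [IsAffine X] [IsAffine Y] [Flat f] [Surjective f] {n : ℕ}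
    (hg : BddFib.FiniteOfDegLE k (f ≫ h) n) : BddFib.FiniteOfDegLE k h n := by
  let := hk.toField
  let : Algebra k Γ(Y, ⊤) := BddFib.secAlgebra k h
  let : Algebra Γ(Y, ⊤) Γ(X, ⊤) := f.appTop.hom.toAlgebra
  let : Algebra k Γ(X, ⊤) := BddFib.secAlgebra k (f ≫ h)
  have : IsScalarTower k Γ(Y, ⊤) Γ(X, ⊤) := by
    refine IsScalarTower.of_algebraMap_eq' ?_
    change ((Scheme.ΓSpecIso k).inv ≫ (f ≫ h).appTop).hom =
      f.appTop.hom.comp ((Scheme.ΓSpecIso k).inv ≫ h.appTop).hom
    rw [Scheme.Hom.comp_appTop, ← CommRingCat.hom_comp, Category.assoc]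
  have hff : f.appTop.hom.FaithfullyFlat :=
    (Flat.flat_and_surjective_iff_faithfullyFlat_of_isAffine f).mp ⟨inferInstance, inferInstance⟩
  have hinj : Function.Injective f.appTop.hom := hff.injective
  let φ : Γ(Y, ⊤) →ₗ[k] Γ(X, ⊤) := (IsScalarTower.toAlgHom k Γ(Y, ⊤) Γ(X, ⊤)).toLinearMap
  have hφ : Function.Injective φ := hinj
  obtain ⟨h1, h2, h3⟩ := hg
  have h2' : Module.Finite k Γ(X, ⊤) := h2
  refine ⟨inferInstance, Module.Finite.of_injective φ hφ, ?_⟩
  exact (LinearMap.finrank_le_finrank_of_injective hφ).trans h3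

set_option backward.isDefEq.respectTransparency.types false in
theorem of_field {k : CommRingCat.{u}} (hk : IsField k) {X Y : Scheme.{u}} (f : X ⟶ Y)
    (h : Y ⟶ Spec k) [Flat f] [Surjective f] {n : ℕ}
    (hg : BddFib.FiniteOfDegLE k (f ≫ h) n) : BddFib.FiniteOfDegLE k h n := by
  let := hk.toField
  have hfin : IsFinite (f ≫ h) := ((finiteOfDegLE_iff hk _ _).mp hg).1
  obtain ⟨hX1, hX2⟩ := finite_of_isFinite (k := k) (f ≫ h)
  have hX3 : IsAffine X := hg.1
  have hY1 : Finite Y := Finite.of_surjective f f.surjective
  have hlqf : LocallyQuasiFinite h := by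
    rw [IsZariskiLocalAtSource.iff_of_openCover (P := @LocallyQuasiFinite) Y.affineCover]
    intro i
    let U := Y.affineCover.X i
    let u : U ⟶ Y := Y.affineCover.f i
    have hu : IsOpenImmersion u := inferInstance
    have hUaff : IsAffine U := inferInstance
    let W := pullback f u
    have hW1 : IsOpenImmersion (pullback.fst f u) := inferInstance
    have hW2 : IsLocallyArtinian W := .of_isImmersion (pullback.fst f u)
    have hW3 : Finite W := Finite.of_injective _ (pullback.fst f u).isOpenEmbedding.injective
    have hW4 : IsAffine W := inferInstance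
    have hW5 : IsFinite (pullback.snd f u ≫ u ≫ h) := by
      rw [← Category.assoc, ← pullback.condition, Category.assoc]
      have h1 : LocallyOfFiniteType (pullback.fst f u ≫ f ≫ h) := inferInstance
      have h2 : LocallyQuasiFinite (pullback.fst f u ≫ f ≫ h) := inferInstance
      have h3 : IsArtinianRing k := inferInstance
      have h4 : IsArtinianScheme (Spec k) := inferInstance
      exact IsFinite.of_locallyQuasiFinite _
    have hW6 : BddFib.FiniteOfDegLE k (pullback.snd f u ≫ u ≫ h)
        ((pullback.snd f u ≫ u ≫ h).finrank (IsLocalRing.closedPoint k)) := by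
      rw [finiteOfDegLE_iff hk]
      have := subsingleton_Spec hk
      exact ⟨hW5, fun y => (congrArg _ (Subsingleton.elim _ _)).le⟩
    have hW7 := of_affine hk (pullback.snd f u) (u ≫ h) hW6
    have hW8 : IsFinite (u ≫ h) := ((finiteOfDegLE_iff hk _ _).mp hW7).1
    exact (inferInstance : LocallyQuasiFinite (u ≫ h))
  have h3 : IsArtinianRing k := inferInstance
  have h4 : IsArtinianScheme (Spec k) := inferInstance
  have h5 : CompactSpace Y := inferInstance
  have h6 : IsFinite h := IsFinite.of_locallyQuasiFinite _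
  have h7 : IsAffine Y := isAffine_of_isAffineHom h
  exact of_affine hk f h hg

theorem of_triangle {X Y Z : Scheme.{u}} (f : X ⟶ Y) (h : Y ⟶ Z) [Flat f] [Surjective f]
    (n : ℕ) (hg : BddFib.FibreDegLE (f ≫ h) n) : BddFib.FibreDegLE h n := by
  intro z
  have h1 : IsPullback (pullback.fst h (Z.fromSpecResidueField z)) (pullback.snd h _) h
    (Z.fromSpecResidueField z) := IsPullback.of_hasPullback _ _
  have h2 : IsPullback (pullback.fst f (pullback.fst h (Z.fromSpecResidueField z)))
    (pullback.snd f _) f (pullback.fst h (Z.fromSpecResidueField z)) :=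
      IsPullback.of_hasPullback _ _
  have h4 := h2.paste_vert h1
  have h5 := of_isPullback_field hg (isField_residueField Z z) h4
  have h6 : Flat (pullback.snd f (pullback.fst h (Z.fromSpecResidueField z))) := inferInstance
  have h7 : Surjective (pullback.snd f (pullback.fst h (Z.fromSpecResidueField z))) :=
    inferInstance
  exact of_field (isField_residueField Z z) (pullback.snd f _) (pullback.snd h _) h5

end K391.BddFlat
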